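import Groth.Agent.Lib.RamSam27.Cohen
import Groth.Agent.Lib.HensFib6.HenselNormal
import Groth.Agent.Lib.Branch14.Completion
import Groth.Agent.Lib.UnibrDesc27.Basic

/-!
# Branches of the completion of a local ring with geometrically normal formal fibres
-/

set_option autoImplicit false
set_option linter.style.haveILetI false
set_option maxSynthPendingDepth 3
set_option backward.isDefEq.respectTransparency.types false

universe u

open IsLocalRing TensorProduct

namespace Groth.Agent.HensFib27

open Groth.Agent.CIPic27 Groth.Agent.CplLocH7 Groth.Agent.Hens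

/-- A strict henselization is adically formally smooth. -/
theorem formallySmoothAdic_hsh (A : Type u) [CommRing A] [IsLocalRing A] [IsNoetherianRing A] :
    EGA41.IsFormallySmoothAdic A (maximalIdeal A) (Hsh A) (maximalIdeal (Hsh A)) := by
  intro C _ _ J hJ _ u hu
  refine AdicSmooth.exists_lift_of_isAdicFormallySmooth ?_ J hJ u hu
  have hreg := RamSam27.isRegularHom_hsh A
  haveI : IsNoetherianRing (Hsh A) := inferInstance
  exact (FSFlat3.isAdicFormallySmooth_iff (k := (maximalIdeal A).ResidueField)
    (Ideal.algebraMap_residueField_surjective (maximalIdeal A))).2 ⟨hreg.1, (hreg.2 (maximalIdeal A)).2⟩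

/-- The strict henselization inherits geometrically normal formal fibres. -/
theorem hsh_normal_formalFibres (A : Type u) [CommRing A] [IsLocalRing A] [IsNoetherianRing A]
    (h : EGA4.HasGeomNormalFormalFibres A) : EGA4.HasGeomNormalFormalFibres (Hsh A) := by
  let H := Hsh A
  haveI := faithfullyFlat_cpl A
  haveI := faithfullyFlat_cpl H
  haveI : IsNoetherianRing (EGA4.Cpl A) := CplLocH7.isNoetherianRing_cpl A
  haveI : IsNoetherianRing (EGA4.Cpl H) := CplLocH7.isNoetherianRing_cpl H
  have hfs := formallySmoothAdic_hsh A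
  have hlo : IsLocalHom (algebraMap A H) := inferInstance
  have hle : (maximalIdeal A).map (algebraMap A H) ≤ maximalIdeal H :=
    ((local_hom_TFAE (algebraMap A H)).out 0 2).1 hlo
  letI : Algebra (Cpl A) (Cpl H) := (FSch.complMap (maximalIdeal A) (maximalIdeal H) (algebraMap A H) hle).toAlgebra
  haveI : IsScalarTower A (Cpl A) (Cpl H) := .of_algebraMap_eq fun a => by
    rw [RingHom.algebraMap_toAlgebra, FormalH7.complMap_algebraMap, ← IsScalarTower.algebraMap_apply]
  haveI : IsAdicComplete (maximalIdeal (Cpl A)) (Cpl A) := by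
    rw [maximalIdeal_cpl]; exact AdicCompletion.isAdicComplete_self _ (maximalIdeal A).fg_of_isNoetherianRing
  haveI : IsAdicComplete (maximalIdeal (Cpl H)) (Cpl H) := by
    rw [maximalIdeal_cpl]; exact AdicCompletion.isAdicComplete_self _ (maximalIdeal H).fg_of_isNoetherianRing
  haveI : IsLocalHom (algebraMap (Cpl A) (Cpl H)) := ((local_hom_TFAE (algebraMap (Cpl A) (Cpl H))).out 0 2).2 (by
    rw [maximalIdeal_cpl, Ideal.map_map, ← IsScalarTower.algebraMap_eq, IsScalarTower.algebraMap_eq A H (Cpl H),
      ← Ideal.map_map]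
    exact (Ideal.map_mono hle).trans (maximalIdeal_cpl H).ge)
  have hreg := AndreFS1.isRegularHom_of_adicFS (Cpl A) (Cpl H)
    (RamSam27.adicFS_of_EGA41 (RamSam27.adicFS_cpl hfs))
  have hpi : GRing6.HasPiFibres A H := fun p _ => Hs.exists_fibre_equiv_pi (AlgEquiv.refl : H ≃ₐ[A] H) p
  exact (GRing6.normalProp_cpl_iff H).1 (HensFib6.isNormalHom_up_piFibres A H (EGA4.Cpl H) hpi
    (FlatDepth.isNormalHom_comp A (EGA4.Cpl A) (EGA4.Cpl H) ((GRing6.normalProp_cpl_iff A).2 h)
      (FlatDepth.isNormalHom_of_isRegularHom hreg)))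

/-- Henselian with geometrically normal formal fibres: no more minimal primes in the completion. -/
theorem encard_minimalPrimes_cpl_le (T : Type u) [CommRing T] [HenselianLocalRing T] [IsNoetherianRing T]
    (h : EGA4.HasGeomNormalFormalFibres T) :
    (minimalPrimes (EGA4.Cpl T)).encard ≤ (minimalPrimes T).encard := by
  haveI : Module.FaithfullyFlat T (EGA4.Cpl T) := CplLocH7.faithfullyFlat_cpl T
  refine (Set.encard_le_encard (t := (fun q => q.map (algebraMap T (EGA4.Cpl T))) '' minimalPrimes T) ?_).trans
    (Set.encard_image_le _ _)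
  intro Q hQ
  haveI : Q.IsPrime := hQ.1.1
  obtain ⟨q, hq, hle⟩ := Ideal.exists_minimalPrimes_le (bot_le : ⊥ ≤ Q.comap (algebraMap T (EGA4.Cpl T)))
  haveI : q.IsPrime := hq.1.1
  have hp := HensFib6.isDomain_cpl_quotient T h q
  have hqQ : q.map (algebraMap T (EGA4.Cpl T)) ≤ Q := Ideal.map_le_iff_le_comap.2 hle
  exact ⟨q, hq, le_antisymm hqQ (hQ.2 ⟨hp, bot_le⟩ hqQ)⟩

theorem numBranches_cpl (A : Type u) [CommRing A] [IsLocalRing A] [IsNoetherianRing A]
    (hA : EGA4.HasGeomNormalFormalFibres A) :
    Brnch.numBranches (AdicCompletion (maximalIdeal A) A) = Brnch.numBranches A := by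
  let S := Hh A
  haveI : IsNoetherianRing S := Hens.henselization_isNoetherianRing A S
  haveI : HenselianLocalRing S := Hensel.IsHenselization.henselian (R := A)
  haveI : Module.FaithfullyFlat A S := Hens.henselization_faithfullyFlat A S
  obtain ⟨_, _, hb⟩ := GRing6.exists_cpl_bijective A S (Hens.henselization_map_maximalIdeal A S)
      (fun x => Hens.henselization_exists_sub_mem A S x)
  let e : EGA4.Cpl A ≃+* EGA4.Cpl S := RingEquiv.ofBijective _ hb
  let ψ : S →+* AdicCompletion (maximalIdeal A) A := e.symm.toRingHom.comp (algebraMap S (EGA4.Cpl S))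
  have hψ : ψ.comp (algebraMap A S) = algebraMap A (AdicCompletion (maximalIdeal A) A) := by
    refine RingHom.ext fun a => e.injective ?_
    refine (e.apply_symm_apply _).trans ?_
    exact (IsScalarTower.algebraMap_apply A S (EGA4.Cpl S) a).symm.trans
      (IsScalarTower.algebraMap_apply A (EGA4.Cpl A) (EGA4.Cpl S) a)
  refine ((Branch14.numBranches_eq_completion_iff A S ψ hψ).2 fun q hq => ?_).symm
  haveI : q.IsPrime := hq.1.1
  have hp := HensFib6.isDomain_cpl_quotient S (HensFib6.henselization_normal_formalFibres A S hA) q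
  have hpe : (q.map ψ).IsPrime := by
    rw [← Ideal.map_map]
    haveI := hp
    exact Ideal.map_isPrime_of_equiv e.symm
  rw [hpe.radical]
  exact hpe

theorem numGeomBranches_cpl_le (R : Type u) [CommRing R] [IsLocalRing R] [IsNoetherianRing R]
    (hR : EGA4.HasGeomNormalFormalFibres R) :
    Brnch.numGeomBranches (Cpl R) ≤ Brnch.numGeomBranches R := by
  let H := Hsh R
  let T := Cpl H
  haveI := faithfullyFlat_cpl H
  haveI := Compl.isNoetherianRing_maximalIdeal_adicCompletion R
  haveI := Compl.isNoetherianRing_maximalIdeal_adicCompletion H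
  have hmH : (maximalIdeal R).map (algebraMap R H) = maximalIdeal H := Hs.map_maximalIdeal
  letI : Algebra (Cpl R) T := (FSch.complMap (maximalIdeal R) (maximalIdeal H) (algebraMap R H) hmH.le).toAlgebra
  haveI : IsScalarTower R (Cpl R) T := IsScalarTower.of_algebraMap_eq (R := R) (S := Cpl R) (A := T) fun a =>
    (IsScalarTower.algebraMap_apply R H T a).trans
      (FormalH7.complMap_algebraMap (maximalIdeal R) (maximalIdeal H) (algebraMap R H) hmH.le a).symm
  haveI : Module.Flat (Cpl R) T := RingHom.flat_algebraMap_iff.1 (by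
    rw [RingHom.algebraMap_toAlgebra]
    exact FormalH7.flat_complMap (maximalIdeal R) (maximalIdeal H) (algebraMap R H)
      (RingHom.flat_algebraMap_iff.2 inferInstance) hmH)
  have hmap : (maximalIdeal (Cpl R)).map (algebraMap (Cpl R) T) = maximalIdeal T := by
    rw [maximalIdeal_cpl, Ideal.map_map, ← IsScalarTower.algebraMap_eq,
      IsScalarTower.algebraMap_eq R H T, ← Ideal.map_map, hmH, ← maximalIdeal_cpl]
  haveI : IsLocalHom (algebraMap (Cpl R) T) := ((local_hom_TFAE (algebraMap (Cpl R) T)).out 0 2).2 hmap.le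
  haveI : IsAdicComplete (maximalIdeal T) T := by
    rw [maximalIdeal_cpl]; exact AdicCompletion.isAdicComplete_self _ (maximalIdeal H).fg_of_isNoetherianRing
  haveI : HenselianLocalRing T :=
    ⟨fun f hf a₀ h₁ h₂ => HenselianRing.is_henselian (I := maximalIdeal T) f hf a₀ h₁ (h₂.map _)⟩
  haveI : IsSepClosed (ResidueField H) :=
    IsSepClosure.sep_closed (ResidueField R) (self := Hensel.IsStrictHenselization.isSepClosure (R := R))
  haveI : IsLocalHom (algebraMap H T) := ((local_hom_TFAE (algebraMap H T)).out 0 2).2 (maximalIdeal_cpl H).ge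
  have hb : Function.Bijective (ResidueField.map (algebraMap H T)) := by
    refine ⟨(ResidueField.map (algebraMap H T)).injective, fun z => ?_⟩
    obtain ⟨x, rfl⟩ := residue_surjective z
    obtain ⟨a, ha⟩ := exists_sub_mem_pow 1 x
    refine ⟨residue H a, ?_⟩
    rw [ResidueField.map_residue, eq_comm, ← sub_eq_zero, ← map_sub, residue_eq_zero_iff]
    simpa using ha
  haveI : IsSepClosed (ResidueField T) := IsSepClosed.of_exists_root _ fun p hm hp hs => by
    let e := RingEquiv.ofBijective _ hb
    obtain ⟨z, hz⟩ := IsSepClosed.exists_root (p.map e.symm.toRingHom)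
      (by
        rw [Polynomial.degree_map]
        exact (Polynomial.degree_pos_of_irreducible hp).ne')
      (hs.map)
    refine ⟨e z, ?_⟩
    have h := congrArg e hz
    rw [map_zero, Polynomial.eval_map, show e ((p.eval₂ e.symm.toRingHom z)) =
      p.eval₂ (e.toRingHom.comp e.symm.toRingHom) (e z) from Polynomial.hom_eval₂ _ _ e.toRingHom _] at h
    rw [show e.toRingHom.comp e.symm.toRingHom = RingHom.id _ from RingHom.ext e.apply_symm_apply] at h
    exact h
  obtain ⟨g, hg⟩ := RamSam27.exists_hshLift (Cpl R) T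
  letI : Algebra (Hsh (Cpl R)) T := g.toRingHom.toAlgebra
  haveI : IsScalarTower (Cpl R) (Hsh (Cpl R)) T := .of_algebraMap_eq fun b => (g.commutes b).symm
  haveI : IsLocalHom (algebraMap (Hsh (Cpl R)) T) := hg
  haveI : Module.Flat (Hsh (Cpl R)) T := Hs.flat_of_flat_base T
  haveI : HenselianLocalRing H := Hensel.IsStrictHenselization.henselian (R := R)
  rw [← Branch14.card_minimalPrimes_strictHenselization R H,
    ← Branch14.card_minimalPrimes_strictHenselization (Cpl R) (Hsh (Cpl R))]
  exact (UnibrDesc27.encard_minimalPrimes_le (algebraMap (Hsh (Cpl R)) T)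
    (RingHom.flat_algebraMap_iff.2 inferInstance)).trans
    (encard_minimalPrimes_cpl_le H (hsh_normal_formalFibres R hR))

end Groth.Agent.HensFib27
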